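import Cfsg.Agent.Lib.BrauerSuzukiQ.Main
import Cfsg.Agent.Lib.ZStar.Large

/-!
# Glauberman's Z*-theorem, unconditionally

Combines helper7's induction (`Lib.ZStar`) with the Brauer–Suzuki theorem.  Written by helper95.
-/

set_option autoImplicit false

namespace Cfsg.Agent.Lib.BrauerSuzukiQ

open Cfsg
open Cfsg.Agent.Lib

universe u

/-- The unique-involution case of the Z*-theorem. -/
theorem uniqueInvolutionCase : ZStar.UniqueInvolutionCase.{u} :=
  ZStar.uniqueInvolutionCase_of_commuting fun _ _ _ h2 _ ht g => commutator_mem_oddCore h2 ht g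

/-- Glauberman's Z*-theorem. -/
theorem zstar {G : Type u} [Group G] [Finite G] {z : G} (hz : IsIsolatedInvolution z) (g : G) :
    z * g * z⁻¹ * g⁻¹ ∈ oddCore G :=
  ZStar.zstar_of_uniqueInvolutionCase uniqueInvolutionCase _ G rfl z hz g

end Cfsg.Agent.Lib.BrauerSuzukiQ
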