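import Cfsg.Agent.Lib.BrauerSuzukiQ.Main
import Mathlib

/-!
# Generalized quaternion Sylow 2-subgroups and groups without Klein four-subgroups

Both give the hypothesis `OneInvolution` of the Brauer–Suzuki theorem.  Written by helper95.
-/

set_option autoImplicit false

namespace Cfsg.Agent.Lib.BrauerSuzukiQ

open Cfsg
open Cfsg.Agent.Lib

universe u

theorem zmod_two_mul_cases (n : ℕ) [NeZero n] (i : ZMod (2 * n)) (hi : i + i = 0) :
    i = 0 ∨ i = (n : ZMod (2 * n)) := by
  have hlt : i.val < 2 * n := ZMod.val_lt i
  have h : ((i.val + i.val : ℕ) : ZMod (2 * n)) = 0 := by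
    rw [Nat.cast_add, ZMod.natCast_zmod_val, hi]
  rw [ZMod.natCast_eq_zero_iff] at h
  obtain ⟨k, hk⟩ := h
  have hk2 : k < 2 := by
    by_contra hc
    have := Nat.mul_le_mul_left (2 * n) (Nat.le_of_not_lt hc)
    omega
  interval_cases k
  · left
    have h0 : i.val = 0 := by omega
    rw [← ZMod.natCast_zmod_val i, h0, Nat.cast_zero]
  · right
    have h0 : i.val = n := by omega
    rw [← ZMod.natCast_zmod_val i, h0]

/-- A generalized quaternion group has one involution. -/
theorem quaternion_involution_unique (n : ℕ) [NeZero n] (x : QuaternionGroup n)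
    (hx : orderOf x = 2) : x = QuaternionGroup.a (n : ZMod (2 * n)) := by
  cases x with
  | xa i => rw [QuaternionGroup.orderOf_xa] at hx; omega
  | a i =>
    have hsq : QuaternionGroup.a i * QuaternionGroup.a i = (1 : QuaternionGroup n) :=
      Involution.mul_self_eq_one hx
    rw [QuaternionGroup.a_mul_a, QuaternionGroup.one_def, QuaternionGroup.a.injEq] at hsq
    rcases zmod_two_mul_cases n i hsq with h | h
    · exfalso
      subst h
      rw [← QuaternionGroup.one_def, orderOf_one] at hx
      omega
    · rw [h]

/-- The centre of a generalized quaternion group has exponent two. -/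
theorem quaternion_center_sq (n : ℕ) (hn : 2 ≤ n) (x : QuaternionGroup n)
    (hx : ∀ y : QuaternionGroup n, x * y = y * x) : x * x = 1 := by
  cases x with
  | a i =>
    have h := hx (QuaternionGroup.xa 0)
    rw [QuaternionGroup.a_mul_xa, QuaternionGroup.xa_mul_a, QuaternionGroup.xa.injEq, zero_sub,
      zero_add] at h
    rw [QuaternionGroup.a_mul_a, QuaternionGroup.one_def, QuaternionGroup.a.injEq]
    have : i + i = i + -i := by rw [h]
    rwa [add_neg_cancel] at this
  | xa i =>
    exfalso
    have h := hx (QuaternionGroup.a 1)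
    rw [QuaternionGroup.xa_mul_a, QuaternionGroup.a_mul_xa, QuaternionGroup.xa.injEq] at h
    have h2 : ((2 : ℕ) : ZMod (2 * n)) = 0 := by
      rw [Nat.cast_ofNat]
      linear_combination h
    rw [ZMod.natCast_eq_zero_iff] at h2
    have := Nat.le_of_dvd two_pos h2
    omega

section

variable {G : Type u} [Group G] [Finite G]

theorem oneInvolution_of_sylow_unique (S : Sylow 2 G)
    (hS : ∀ x y : (S : Subgroup G), orderOf x = 2 → orderOf y = 2 → x = y) :
    OneInvolution G := by
  intro a b ha hb hab
  have : Fact (Nat.Prime 2) := ⟨Nat.prime_two⟩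
  have ha' := Involution.mul_self_eq_one ha
  have hb' := Involution.mul_self_eq_one hb
  have hP : IsPGroup 2 (Subgroup.closure ({a, b} : Set G)) :=
    Involution.isPGroup_two_closure_pair ha' hb' 1
      (by rw [pow_one, sq, hab.symm.mul_mul_mul_comm, ha', hb', one_mul])
  obtain ⟨g, hg⟩ := exists_conj_mem_sylow S hP
  have h1 := hg a (Subgroup.subset_closure (by simp))
  have h2 := hg b (Subgroup.subset_closure (by simp))
  have h3 := hS ⟨_, h1⟩ ⟨_, h2⟩ (by rw [Subgroup.orderOf_mk, Involution.orderOf_conj_eq, ha])
    (by rw [Subgroup.orderOf_mk, Involution.orderOf_conj_eq, hb])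
  simpa using congrArg Subtype.val h3

theorem oneInvolution_of_quaternion (S : Sylow 2 G) (n : ℕ) [NeZero n]
    (e : (S : Subgroup G) ≃* QuaternionGroup n) : OneInvolution G :=
  oneInvolution_of_sylow_unique S fun x y hx hy => e.injective
    ((quaternion_involution_unique n (e x) (by rw [MulEquiv.orderOf_eq, hx])).trans
      (quaternion_involution_unique n (e y) (by rw [MulEquiv.orderOf_eq, hy])).symm)

theorem oneInvolution_of_no_klein (h : ∀ E : Subgroup G, ¬ IsKleinFour E) :
    OneInvolution G := by
  intro a b ha hb hab
  by_contra hne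
  have ha' := Involution.mul_self_eq_one ha
  have hb' := Involution.mul_self_eq_one hb
  have hba : b * a = a * b := hab.eq.symm
  let E : Subgroup G :=
    { carrier := {x | x = 1 ∨ x = a ∨ x = b ∨ x = a * b}
      one_mem' := Or.inl rfl
      mul_mem' := by
        intro x y hx hy
        have e1 : a * (a * b) = b := by rw [← mul_assoc, ha', one_mul]
        have e2 : b * (a * b) = a := by rw [← mul_assoc, hba, mul_assoc, hb', mul_one]
        have e3 : a * b * a = b := by rw [mul_assoc, hba, e1]
        have e4 : a * b * b = a := by rw [mul_assoc, hb', mul_one]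
        have e5 : a * b * (a * b) = 1 := by rw [mul_assoc, e2, ha']
        simp only [Set.mem_setOf_eq] at hx hy ⊢
        rcases hx with rfl | rfl | rfl | rfl <;> rcases hy with rfl | rfl | rfl | rfl <;>
          simp [ha', hb', hba, e1, e2, e3, e4, e5]
      inv_mem' := by
        intro x hx
        simp only [Set.mem_setOf_eq] at hx ⊢
        rcases hx with rfl | rfl | rfl | rfl
        · simp
        · right; left; exact Involution.inv_eq_self ha'
        · right; right; left; exact Involution.inv_eq_self hb'
        · right; right; right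
          rw [mul_inv_rev, Involution.inv_eq_self ha', Involution.inv_eq_self hb', hba] }
  have hab1 : a * b ≠ 1 := fun h1 => hne (mul_right_cancel (h1.trans hb'.symm))
  have haab : a ≠ a * b := fun h1 => Involution.ne_one hb (by simpa using h1)
  have hbab : b ≠ a * b := fun h1 => Involution.ne_one ha (by simpa using h1)
  have hset : (E : Set G) = {1, a, b, a * b} := by
    ext x
    simp [E]
  have hcard : Nat.card E = 4 := by
    have h1 : Nat.card E = Set.ncard (E : Set G) := Nat.card_coe_set_eq _
    rw [h1, hset, Set.ncard_insert_of_notMem, Set.ncard_insert_of_notMem,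
      Set.ncard_pair hbab]
    · simp [hne, haab]
    · simp [(Involution.ne_one ha).symm, (Involution.ne_one hb).symm, hab1.symm]
  have hsq : ∀ x : E, x * x = 1 := by
    rintro ⟨x, hx⟩
    apply Subtype.ext
    show x * x = 1
    have hx' : x = 1 ∨ x = a ∨ x = b ∨ x = a * b := hx
    rcases hx' with rfl | rfl | rfl | rfl
    · exact mul_one 1
    · exact ha'
    · exact hb'
    · rw [hab.symm.mul_mul_mul_comm, ha', hb', one_mul]
  haveI : Nontrivial E := ⟨⟨⟨a, Or.inr (Or.inl rfl)⟩, 1,
    fun hh => Involution.ne_one ha (congrArg Subtype.val hh)⟩⟩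
  refine h E ⟨hcard, ?_⟩
  refine (Monoid.exponent_eq_prime_iff Nat.prime_two).2 fun x hx => ?_
  exact Involution.orderOf_eq_two (hsq x) hx

end

end Cfsg.Agent.Lib.BrauerSuzukiQ
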